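import Groth.Agent.EtResSplitLib.Residue
import Mathlib

/-!
# Residue fields of the blocks, and separating subalgebras
-/

set_option autoImplicit false
set_option linter.all false
set_option maxHeartbeats 1000000
set_option backward.isDefEq.respectTransparency false
set_option backward.isDefEq.respectTransparency.types false

universe u

open Polynomial TensorProduct

namespace EtResSplitLib

attribute [local instance] Algebra.TensorProduct.rightAlgebra

/-- The residue fields of a quotient of `R' ⊗ S` over `p'` are purely inseparable. -/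
theorem isPurelyInseparable_residue {R S R' Z : Type u} [CommRing R] [CommRing S] [CommRing R'] [CommRing Z]
    [Algebra R S] [Algebra.IsIntegral R S] [Algebra R R'] [Algebra R' Z] [Algebra R Z] [IsScalarTower R R' Z]
    (φ : R' ⊗[R] S →ₐ[R'] Z) (hφ : Function.Surjective φ) (p : Ideal R) [p.IsPrime] (p' : Ideal R') [p'.IsPrime]
    (hp : p = p'.comap (algebraMap R R')) (r : Ideal Z) [r.IsPrime] (hr : p' = r.comap (algebraMap R' Z))
    (hsplit : ∀ (q : Ideal S) (_ : q.IsPrime) (hq : p = q.comap (algebraMap R S)) (y : q.ResidueField),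
      letI := (Ideal.ResidueField.map p q (algebraMap R S) hq).toAlgebra
      IsSeparable p.ResidueField y →
        ((minpoly p.ResidueField y).map (Ideal.ResidueField.map p p' (algebraMap R R') hp)).Splits) :
    letI := (Ideal.ResidueField.map p' r (algebraMap R' Z) hr).toAlgebra
    IsPurelyInseparable p'.ResidueField r.ResidueField := by
  letI aK : Algebra p'.ResidueField r.ResidueField := (Ideal.ResidueField.map p' r (algebraMap R' Z) hr).toAlgebra
  let i : S →+* Z := φ.toRingHom.comp (Algebra.TensorProduct.includeRight : S →ₐ[R] R' ⊗[R] S).toRingHom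
  have hi : i.comp (algebraMap R S) = (algebraMap R' Z).comp (algebraMap R R') := RingHom.ext fun a => by
    show φ (1 ⊗ₜ algebraMap R S a) = _
    rw [Algebra.algebraMap_eq_smul_one (A := S), TensorProduct.tmul_smul, TensorProduct.smul_tmul',
      ← Algebra.algebraMap_eq_smul_one (A := R')]
    exact φ.commutes (algebraMap R R' a)
  let q := r.comap i
  haveI : q.IsPrime := Ideal.IsPrime.comap _
  have hq : p = q.comap (algebraMap R S) := by rw [Ideal.comap_comap, hi, ← Ideal.comap_comap, ← hr, ← hp]
  letI a1 : Algebra p.ResidueField q.ResidueField := (Ideal.ResidueField.map p q (algebraMap R S) hq).toAlgebra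
  letI a2 : Algebra p.ResidueField p'.ResidueField := (Ideal.ResidueField.map p p' (algebraMap R R') hp).toAlgebra
  letI a3 : Algebra q.ResidueField r.ResidueField := (Ideal.ResidueField.map q r i rfl).toAlgebra
  letI a4 : Algebra p.ResidueField r.ResidueField :=
    ((Ideal.ResidueField.map p' r (algebraMap R' Z) hr).comp (Ideal.ResidueField.map p p' (algebraMap R R') hp)).toAlgebra
  haveI : IsScalarTower p.ResidueField p'.ResidueField r.ResidueField := IsScalarTower.of_algebraMap_eq' rfl
  haveI : IsScalarTower p.ResidueField q.ResidueField r.ResidueField := IsScalarTower.of_algebraMap_eq' (by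
    refine IsLocalization.ringHom_ext (nonZeroDivisors (R ⧸ p)) (Ideal.Quotient.ringHom_ext (RingHom.ext fun a => ?_))
    show Ideal.ResidueField.map p' r _ hr (Ideal.ResidueField.map p p' _ hp (algebraMap R p.ResidueField a)) =
      Ideal.ResidueField.map q r i rfl (Ideal.ResidueField.map p q _ hq (algebraMap R p.ResidueField a))
    simp only [Ideal.ResidueField.map_algebraMap]
    exact congrArg _ (RingHom.congr_fun hi a).symm)
  haveI : Algebra.IsAlgebraic p.ResidueField q.ResidueField := ⟨fun x => by
    have hint : ∀ a : S, IsIntegral p.ResidueField (algebraMap S q.ResidueField a) := fun a => by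
      refine IsIntegral.map_of_comp_eq (algebraMap R p.ResidueField) (algebraMap S q.ResidueField) ?_
        (Algebra.IsIntegral.isIntegral a)
      exact RingHom.ext fun z => Ideal.ResidueField.map_algebraMap p q _ hq z
    obtain ⟨a, b, -, rfl⟩ := IsFractionRing.div_surjective (A := S ⧸ q) x
    obtain ⟨a, rfl⟩ := Ideal.Quotient.mk_surjective a
    obtain ⟨b, rfl⟩ := Ideal.Quotient.mk_surjective b
    rw [div_eq_mul_inv]
    exact (hint a).isAlgebraic.mul (hint b).isAlgebraic.inv⟩
  refine isPurelyInseparable_of_splits (k := p.ResidueField) (L := q.ResidueField) (fun y hy => hsplit q _ hq y hy) ?_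
  rw [eq_top_iff]
  intro x _
  have hmem : ∀ z : Z, algebraMap Z r.ResidueField z ∈
      IntermediateField.adjoin p'.ResidueField (Set.range (algebraMap q.ResidueField r.ResidueField)) := fun z => by
    obtain ⟨w, rfl⟩ := hφ z
    induction w using TensorProduct.induction_on with
    | zero => rw [map_zero, map_zero]; exact zero_mem _
    | add a b ha hb => rw [map_add, map_add]; exact add_mem ha hb
    | tmul a b =>
      rw [show a ⊗ₜ[R] b = algebraMap R' (R' ⊗[R] S) a * (1 ⊗ₜ b) by
        rw [Algebra.TensorProduct.algebraMap_apply, Algebra.TensorProduct.tmul_mul_tmul, mul_one, one_mul]; rfl,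
        map_mul, map_mul, φ.commutes]
      refine mul_mem ?_ (IntermediateField.subset_adjoin _ _ ⟨algebraMap S _ b, Ideal.ResidueField.map_algebraMap q r i rfl b⟩)
      rw [← Ideal.ResidueField.map_algebraMap p' r (algebraMap R' Z) hr a]
      exact IntermediateField.algebraMap_mem _ _
  obtain ⟨a, b, -, rfl⟩ := IsFractionRing.div_surjective (A := Z ⧸ r) x
  obtain ⟨a, rfl⟩ := Ideal.Quotient.mk_surjective a
  obtain ⟨b, rfl⟩ := Ideal.Quotient.mk_surjective b
  exact div_mem (hmem a) (hmem b)

/-- Finitely many primes are separated by a finite subalgebra. -/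
theorem exists_separating_subalgebra {R S : Type u} [CommRing R] [CommRing S] [Algebra R S] [Algebra.IsIntegral R S]
    (F : Set (Ideal S)) (hF : F.Finite) :
    ∃ S₀ : Subalgebra R S, Module.Finite R S₀ ∧
      ∀ q₁ ∈ F, ∀ q₂ ∈ F, q₁.comap S₀.val.toRingHom = q₂.comap S₀.val.toRingHom → q₁ = q₂ := by
  classical
  haveI := hF.to_subtype
  have hch : ∀ x : F × F, ∃ s : S, x.1.1 ≠ x.2.1 → ¬(s ∈ x.1.1 ↔ s ∈ x.2.1) := fun x => by
    by_cases h : x.1.1 = x.2.1
    · exact ⟨0, fun h' => absurd h h'⟩
    · by_contra hno
      push Not at hno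
      exact h (Ideal.ext fun s => (hno s).2)
  choose s hs using hch
  refine ⟨Algebra.adjoin R (Set.range s), ?_, fun q₁ h₁ q₂ h₂ he => by_contra fun hne => hs ⟨⟨q₁, h₁⟩, ⟨q₂, h₂⟩⟩ hne ?_⟩
  · exact Module.Finite.of_fg (fg_adjoin_of_finite (Set.finite_range s) fun x _ => Algebra.IsIntegral.isIntegral x)
  · exact Ideal.ext_iff.1 he ⟨s (⟨q₁, h₁⟩, ⟨q₂, h₂⟩), Algebra.subset_adjoin ⟨_, rfl⟩⟩

end EtResSplitLib
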