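import Groth.Agent.EtResSplitLib.Split
import Mathlib

/-!
# Assembly
-/

set_option autoImplicit false
set_option linter.all false
set_option maxHeartbeats 1000000
set_option backward.isDefEq.respectTransparency false
set_option backward.isDefEq.respectTransparency.types false

universe u

open Polynomial TensorProduct

namespace EtResSplitLib

/-- Exactly one prime over `P` in a block. -/
theorem existsUnique_block {R' T₀ Y : Type u} [CommRing R'] [CommRing T₀] [CommRing Y] [Algebra R' T₀] [Algebra R' Y]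
    [Algebra.IsIntegral R' Y] (j : T₀ →ₐ[R'] Y) (hj : Function.Injective j) (P : Ideal R') (e : T₀) (P₀ : Ideal T₀)
    [P₀.IsPrime] [P₀.LiesOver P] (he : e ∉ P₀)
    (huniq₀ : ∀ Q : Ideal T₀, Q.IsPrime → Q.LiesOver P → e ∉ Q → Q = P₀)
    (huniq : ∀ r r' : Ideal Y, r.IsPrime → r'.IsPrime → r.LiesOver P → r'.LiesOver P →
      r.comap j.toRingHom = r'.comap j.toRingHom → r = r') :
    ∃ r : Ideal Y, r.IsPrime ∧ r.LiesOver P ∧ j e ∉ r ∧
      ∀ r' : Ideal Y, r'.IsPrime → r'.LiesOver P → j e ∉ r' → r' = r := by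
  letI : Algebra T₀ Y := j.toRingHom.toAlgebra
  haveI : IsScalarTower R' T₀ Y := IsScalarTower.of_algebraMap_eq fun a => (j.commutes a).symm
  haveI : Algebra.IsIntegral T₀ Y := Algebra.IsIntegral.tower_top R'
  obtain ⟨r, -, hr, hr0⟩ := Ideal.exists_ideal_over_prime_of_isIntegral (S := Y) P₀ ⊥
    (fun x hx => (hj ((Ideal.mem_bot.1 hx).trans (map_zero j).symm)).symm ▸ P₀.zero_mem)
  have hcomp : ∀ r' : Ideal Y, r'.LiesOver P → (r'.comap j.toRingHom).LiesOver P := fun r' h => ⟨by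
    show P = (r'.comap j.toRingHom).comap (algebraMap R' T₀)
    rw [Ideal.comap_comap, j.toRingHom_eq_coe, j.comp_algebraMap]
    exact h.over⟩
  have hrP : r.LiesOver P := ⟨by
    show P = r.comap (algebraMap R' Y)
    rw [IsScalarTower.algebraMap_eq R' T₀ Y, ← Ideal.comap_comap]
    exact (Ideal.LiesOver.over (P := P₀) (p := P)).trans (congrArg (Ideal.comap (algebraMap R' T₀)) hr0.symm)⟩
  refine ⟨r, hr, hrP, fun h => he (hr0 ▸ (show e ∈ r.comap (algebraMap T₀ Y) from h)), fun r' hr' hr'P he' => ?_⟩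
  refine huniq r' r hr' hr hr'P hrP ?_
  haveI := hr'
  exact (huniq₀ _ (Ideal.IsPrime.comap _) (hcomp r' hr'P) he').trans hr0.symm

/-- The quotient by the complementary idempotent, at the prime of the block. -/
theorem exists_block_quotient {R' Y : Type u} [CommRing R'] [CommRing Y] [Algebra R' Y] [Algebra.IsIntegral R' Y]
    (P : Ideal R') [P.IsPrime] (E : Y) (hE : IsIdempotentElem E)
    (h : ∃ r : Ideal Y, r.IsPrime ∧ r.LiesOver P ∧ E ∉ r ∧
      ∀ r' : Ideal Y, r'.IsPrime → r'.LiesOver P → E ∉ r' → r' = r) :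
    Algebra.IsIntegral R' (Y ⧸ Ideal.span {1 - E}) ∧
      ∃ (r : PrimeSpectrum (Y ⧸ Ideal.span {1 - E})) (hr : r.asIdeal.comap (algebraMap R' (Y ⧸ Ideal.span {1 - E})) = P),
        ∀ r' : PrimeSpectrum (Y ⧸ Ideal.span {1 - E}),
          r'.asIdeal.comap (algebraMap R' (Y ⧸ Ideal.span {1 - E})) = P → r' = r := by
  let π := Ideal.Quotient.mk (Ideal.span {1 - E})
  haveI : Algebra.IsIntegral R' (Y ⧸ Ideal.span {1 - E}) :=
    Algebra.IsIntegral.of_surjective (Ideal.Quotient.mkₐ R' (Ideal.span {1 - E})) Ideal.Quotient.mk_surjective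
  refine ⟨inferInstance, ?_⟩
  obtain ⟨r, hr, hrP, hEr, huniq⟩ := h
  haveI := hr
  have hcase : ∀ x : Ideal Y, x.IsPrime → ((1 - E) ∈ x ↔ E ∉ x) := fun x hx => by
    refine ⟨fun h1 h2 => hx.ne_top ((Ideal.eq_top_iff_one x).2 (by simpa using add_mem h1 h2)), fun h2 => ?_⟩
    have h3 : E * (1 - E) ∈ x := by rw [mul_sub, mul_one, hE.eq, sub_self]; exact x.zero_mem
    exact (hx.mem_or_mem h3).resolve_left h2
  have hker : RingHom.ker π ≤ r := by
    rw [Ideal.mk_ker, Ideal.span_singleton_le_iff_mem]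
    exact (hcase r hr).2 hEr
  haveI : (r.map π).IsPrime := Ideal.map_isPrime_of_surjective Ideal.Quotient.mk_surjective hker
  refine ⟨⟨r.map π, inferInstance⟩, ?_, fun r' hr' => PrimeSpectrum.ext ?_⟩
  · show (r.map π).comap (π.comp (algebraMap R' Y)) = P
    rw [← Ideal.comap_comap, Ideal.comap_map_of_surjective π Ideal.Quotient.mk_surjective, ← RingHom.ker_eq_comap_bot,
      sup_eq_left.2 hker]
    exact hrP.over.symm
  · have h1 : r'.asIdeal.comap π = r := by
      haveI := r'.2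
      refine huniq _ (Ideal.IsPrime.comap _) ⟨?_⟩ ((hcase _ (Ideal.IsPrime.comap _)).1 ?_)
      · show P = (r'.asIdeal.comap π).comap (algebraMap R' Y)
        rw [Ideal.comap_comap]
        exact hr'.symm
      · show π (1 - E) ∈ r'.asIdeal
        rw [Ideal.Quotient.eq_zero_iff_mem.2 (Ideal.mem_span_singleton_self _)]
        exact r'.asIdeal.zero_mem
    show r'.asIdeal = r.map π
    rw [← h1, Ideal.map_comap_of_surjective π Ideal.Quotient.mk_surjective]

/-- Two primes of `R₂ ⊗ S` over `P` with the same trace on a separating subalgebra of `R₁ ⊗ S` agree. -/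
theorem eq_of_comap_eq {R₁ S₁ R₂ Y : Type u} [CommRing R₁] [CommRing S₁] [CommRing R₂] [CommRing Y] [Algebra R₁ S₁]
    [Algebra R₁ R₂] [Algebra R₂ Y] (c : R₂ ⊗[R₁] S₁ ≃ₐ[R₂] Y) (p₁ : Ideal R₁) [p₁.IsPrime] (P : Ideal R₂) [P.IsPrime]
    [P.LiesOver p₁] (hbij : Function.Bijective (Ideal.ResidueField.mapₐ p₁ P (Algebra.ofId _ _) (P.over_def p₁)))
    (S₀ : Subalgebra R₁ S₁)
    (hsep : ∀ q₁ ∈ p₁.primesOver S₁, ∀ q₂ ∈ p₁.primesOver S₁,
      q₁.comap S₀.val.toRingHom = q₂.comap S₀.val.toRingHom → q₁ = q₂)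
    (r r' : Ideal Y) (hr : r.IsPrime) (hr' : r'.IsPrime) (hrP : r.LiesOver P) (hr'P : r'.LiesOver P)
    (he : r.comap (c.toAlgHom.comp (Algebra.TensorProduct.map (AlgHom.id R₂ R₂) S₀.val)).toRingHom =
      r'.comap (c.toAlgHom.comp (Algebra.TensorProduct.map (AlgHom.id R₂ R₂) S₀.val)).toRingHom) : r = r' := by
  let w := r.comap c.toAlgHom.toRingHom
  let w' := r'.comap c.toAlgHom.toRingHom
  haveI : w.IsPrime := Ideal.IsPrime.comap _
  haveI : w'.IsPrime := Ideal.IsPrime.comap _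
  have hover : ∀ x : Ideal Y, x.LiesOver P → (x.comap c.toAlgHom.toRingHom).LiesOver P := fun x h => ⟨by
    show P = (x.comap c.toAlgHom.toRingHom).comap (algebraMap R₂ _)
    rw [Ideal.comap_comap, c.toAlgHom.toRingHom_eq_coe, c.toAlgHom.comp_algebraMap]
    exact h.over⟩
  haveI := hover r hrP
  haveI := hover r' hr'P
  have hin : (Algebra.TensorProduct.includeRight : S₁ →ₐ[R₁] R₂ ⊗[R₁] S₁).toRingHom.comp (algebraMap R₁ S₁) =
      (algebraMap R₂ (R₂ ⊗[R₁] S₁)).comp (algebraMap R₁ R₂) := by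
    rw [← IsScalarTower.algebraMap_eq]
    exact (Algebra.TensorProduct.includeRight : S₁ →ₐ[R₁] R₂ ⊗[R₁] S₁).comp_algebraMap
  have hmem : ∀ x : Ideal (R₂ ⊗[R₁] S₁), x.IsPrime → x.LiesOver P →
      x.comap (Algebra.TensorProduct.includeRight : S₁ →ₐ[R₁] R₂ ⊗[R₁] S₁).toRingHom ∈ p₁.primesOver S₁ :=
    fun x hx hxP => ⟨hx.comap _, ⟨by
      show p₁ = (x.comap _).comap (algebraMap R₁ S₁)
      rw [Ideal.comap_comap, hin, ← Ideal.comap_comap, ← Ideal.under_def R₂ x, ← hxP.over]
      exact (Ideal.LiesOver.over (P := P) (p := p₁))⟩⟩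
  have h2 := hsep _ (hmem w inferInstance inferInstance) _ (hmem w' inferInstance inferInstance) (Ideal.ext fun x => by
    have := Ideal.ext_iff.1 he (1 ⊗ₜ x)
    simpa [w, w'] using this)
  have h1 : w = w' := Ideal.eq_of_comap_eq_comap_of_bijective_residueFieldMap hbij w w' h2
  exact Ideal.comap_injective_of_surjective c.toAlgHom.toRingHom c.surjective h1

/-- The splitting over a base whose residue field is large enough. -/
theorem exists_split {R S R₁ : Type u} [CommRing R] [CommRing S] [CommRing R₁] [Algebra R S] [Algebra.IsIntegral R S]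
    [Algebra R R₁] [Algebra.Etale R R₁] (p : Ideal R) [p.IsPrime] (p₁ : Ideal R₁) [p₁.IsPrime] [p₁.LiesOver p]
    (hfin₁ : (p₁.primesOver (R₁ ⊗[R] S)).Finite)
    (hsplit : ∀ (R' : Type u) [CommRing R'] [Algebra R R'] [Algebra R₁ R'] [IsScalarTower R R₁ R'] (p' : Ideal R')
      [p'.IsPrime] [p'.LiesOver p₁] (hp : p = p'.comap (algebraMap R R')) (q : Ideal S) (_ : q.IsPrime)
      (hq : p = q.comap (algebraMap R S)) (y : q.ResidueField),
      letI := (Ideal.ResidueField.map p q (algebraMap R S) hq).toAlgebra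
      IsSeparable p.ResidueField y →
        ((minpoly p.ResidueField y).map (Ideal.ResidueField.map p p' (algebraMap R R') hp)).Splits) :
    ∃ (R' : Type u) (_ : CommRing R') (_ : Algebra R R') (p' : PrimeSpectrum R'), Algebra.Etale R R' ∧ p'.asIdeal.comap (algebraMap R R') = p ∧
      ∃ (m : ℕ) (A : Fin m → Type u) (_ : ∀ j, CommRing (A j)) (_ : ∀ j, Algebra R' (A j)) (e : R' ⊗[R] S ≃ₐ[R'] (Π j, A j)),
        ∀ j, Algebra.IsIntegral R' (A j) ∧ ∃ (r : PrimeSpectrum (A j)) (hr : r.asIdeal.comap (algebraMap R' (A j)) = p'.asIdeal),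
          (∀ r' : PrimeSpectrum (A j), r'.asIdeal.comap (algebraMap R' (A j)) = p'.asIdeal → r' = r) ∧
          letI := (Ideal.ResidueField.map p'.asIdeal r.asIdeal (algebraMap R' (A j)) hr.symm).toAlgebra
          IsPurelyInseparable p'.asIdeal.ResidueField r.asIdeal.ResidueField := by
  classical
  haveI : Algebra.IsIntegral R₁ (R₁ ⊗[R] S) := inferInstance
  obtain ⟨S₀, hS₀, hsep⟩ := exists_separating_subalgebra (R := R₁) _ hfin₁
  haveI := hS₀
  obtain ⟨R₂, _, _, _, P, _, _, n, e, he, P₀, _, _, hbij, heP, hall⟩ :=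
    Algebra.exists_etale_completeOrthogonalIdempotents_forall_liesOver_eq (R := R₁) (S := S₀) p₁
  letI : Algebra R R₂ := ((algebraMap R₁ R₂).comp (algebraMap R R₁)).toAlgebra
  haveI : IsScalarTower R R₁ R₂ := IsScalarTower.of_algebraMap_eq fun _ => rfl
  haveI : Algebra.Etale R R₂ := Algebra.Etale.comp R R₁ R₂
  haveI : P.LiesOver p := Ideal.LiesOver.trans P p₁ p
  let c : R₂ ⊗[R₁] (R₁ ⊗[R] S) ≃ₐ[R₂] R₂ ⊗[R] S := Algebra.TensorProduct.cancelBaseChange R R₁ R₂ R₂ S
  let j : R₂ ⊗[R₁] S₀ →ₐ[R₂] R₂ ⊗[R] S := c.toAlgHom.comp (Algebra.TensorProduct.map (AlgHom.id R₂ R₂) S₀.val)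
  have hjinj : Function.Injective j := by
    have h : Function.Injective (S₀.val.toLinearMap.lTensor R₂) :=
      Module.Flat.lTensor_preserves_injective_linearMap _ Subtype.val_injective
    exact c.injective.comp h
  have hlast : ∀ r : Ideal (R₂ ⊗[R] S), r.IsPrime → r.LiesOver P → j (e (Fin.last n)) ∈ r := fun r hr hrP =>
    (hall (r.comap j.toRingHom) (hr.comap _) ⟨by
      show P = (r.comap j.toRingHom).comap (algebraMap R₂ _)
      rw [Ideal.comap_comap, j.toRingHom_eq_coe, j.comp_algebraMap]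
      exact hrP.over⟩).1
  have heY := he.map j.toRingHom
  obtain _ | k := n
  · skip
    obtain ⟨R', _, _, p', h1, h2, hsub⟩ := exists_split_empty (S := S) p P (fun r hr hrP => by
      have h1 := heY.complete
      rw [Fin.sum_univ_one] at h1
      have h2 : j (e (Fin.last 0)) ∈ r := hlast r hr hrP
      have h3 : (1 : R₂ ⊗[R] S) ∈ r := h1 ▸ h2
      exact hr.ne_top ((Ideal.eq_top_iff_one r).2 h3))
    haveI := hsub
    exact ⟨R', inferInstance, inferInstance, p', h1, h2, 0, fun _ => PUnit, fun j => j.elim0, fun j => j.elim0,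
      AlgEquiv.ofBijective (Pi.algHom R' _ fun j => j.elim0)
        ⟨fun a b _ => Subsingleton.elim a b, fun y => ⟨0, funext fun j => j.elim0⟩⟩, fun j => j.elim0⟩
  · skip
    have hE := completeOrthogonalIdempotents_merge _ heY
    obtain ⟨eqv⟩ := exists_equiv_pi (R' := R₂) _ hE
    refine ⟨R₂, inferInstance, inferInstance, ⟨P, inferInstance⟩, inferInstance,
      (Ideal.LiesOver.over (P := P) (p := p)).symm, k + 1, _, fun _ => inferInstance, fun _ => inferInstance, eqv,
      fun i => ?_⟩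
    have hblock := existsUnique_block j hjinj P (e i.castSucc) (P₀ i) (heP i)
      (fun Q hQ hQP hne => (hall Q hQ hQP).2 i hne)
      (fun r r' hr hr' hrP hr'P h => eq_of_comap_eq c p₁ P hbij S₀ hsep r r' hr hr' hrP hr'P h)
    have hiff : ∀ r : Ideal (R₂ ⊗[R] S), r.IsPrime → r.LiesOver P →
        ((j (e i.castSucc) + if i = 0 then j (e (Fin.last (k + 1))) else 0) ∈ r ↔ j (e i.castSucc) ∈ r) :=
      fun r hr hrP => by
        split_ifs
        · exact r.add_mem_iff_left (hlast r hr hrP)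
        · rw [add_zero]
    obtain ⟨hint, r, hr, huniq⟩ := exists_block_quotient P _ (hE.idem i) (by
      obtain ⟨r, h1, h2, h3, h4⟩ := hblock
      exact ⟨r, h1, h2, fun h => h3 ((hiff r h1 h2).1 h), fun r' a b c' => h4 r' a b (fun h => c' ((hiff r' a b).2 h))⟩)
    refine ⟨hint, r, hr, huniq, ?_⟩
    exact isPurelyInseparable_residue (Ideal.Quotient.mkₐ R₂ _) Ideal.Quotient.mk_surjective p P
      (Ideal.LiesOver.over (P := P) (p := p)) r.asIdeal hr.symm (fun q hq hq' y hy => hsplit R₂ P _ q hq hq' y hy)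

end EtResSplitLib
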