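import Mathlib

/-!
# Étale realisation of separable residue extensions, and pure inseparability of residue fields
-/

set_option autoImplicit false
set_option linter.all false
set_option maxHeartbeats 1000000
set_option backward.isDefEq.respectTransparency false
set_option backward.isDefEq.respectTransparency.types false

universe u

open Polynomial TensorProduct

namespace EtResSplitLib

/-- Every finite separable extension of a residue field embeds in one of an étale neighbourhood. -/
theorem exists_etale_residue {R : Type u} [CommRing R] (p : Ideal R) [p.IsPrime] (K : Type u) [Field K]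
    [Algebra p.ResidueField K] [Algebra R K] [IsScalarTower R p.ResidueField K]
    [FiniteDimensional p.ResidueField K] [Algebra.IsSeparable p.ResidueField K] :
    ∃ (R₁ : Type u) (_ : CommRing R₁) (_ : Algebra R R₁) (_ : Algebra.Etale R R₁) (p₁ : Ideal R₁) (_ : p₁.IsPrime)
      (_ : p₁.LiesOver p), Nonempty (K →ₐ[R] p₁.ResidueField) := by
  classical
  obtain ⟨α, hα⟩ := Field.exists_primitive_element p.ResidueField K
  obtain ⟨s, hs⟩ := IsLocalization.exist_integer_multiples (nonZeroDivisors (R ⧸ p))
    (Finset.range ((minpoly p.ResidueField α).natDegree + 1)) (fun i => (minpoly p.ResidueField α).coeff i)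
  let c : p.ResidueField := algebraMap (R ⧸ p) p.ResidueField s
  have hc : c ≠ 0 := (map_ne_zero_iff _ p.injective_algebraMap_quotient_residueField).2 (nonZeroDivisors.ne_zero s.2)
  let m := minpoly p.ResidueField α
  let m' := m.scaleRoots c
  let β : K := algebraMap p.ResidueField K c * α
  have hαint : IsIntegral p.ResidueField α := .of_finite _ _
  have hm' : m'.Monic := (monic_scaleRoots_iff _).mpr (minpoly.monic hαint)
  have hroot : aeval β m' = 0 := scaleRoots_aeval_eq_zero (minpoly.aeval _ _)
  have hlift : m' ∈ lifts (algebraMap R p.ResidueField) := by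
    rw [lifts_iff_coeff_lifts]
    intro i
    rw [coeff_scaleRoots]
    have hsur : ∀ x : R ⧸ p, algebraMap (R ⧸ p) p.ResidueField x ∈ Set.range (algebraMap R p.ResidueField) :=
      fun x => by obtain ⟨r, rfl⟩ := Ideal.Quotient.mk_surjective x; exact ⟨r, rfl⟩
    rcases lt_trichotomy i m.natDegree with hi | hi | hi
    · obtain ⟨a, ha⟩ := hs i (Finset.mem_range.2 (Nat.lt_succ_of_lt hi))
      obtain ⟨k, hk⟩ := Nat.exists_eq_add_of_lt hi
      obtain ⟨r, hr⟩ := hsur (a * (s : R ⧸ p) ^ k)
      refine ⟨r, ?_⟩
      rw [hr, map_mul, map_pow, ha, show m.natDegree - i = k + 1 by omega, pow_succ]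
      show (s : R ⧸ p) • m.coeff i * c ^ k = m.coeff i * (c ^ k * c)
      rw [Algebra.smul_def]
      ring
    · exact ⟨1, by rw [hi, Nat.sub_self, pow_zero, mul_one, map_one, (minpoly.monic hαint).coeff_natDegree]⟩
    · exact ⟨0, by rw [map_zero, coeff_eq_zero_of_natDegree_lt hi, zero_mul]⟩
  obtain ⟨f, hf, -, hfmon⟩ := lifts_and_degree_eq_and_monic hlift hm'
  let P : StandardEtalePair R := ⟨f, hfmon, derivative f, 1, 0, 1, by simp⟩
  have hfroot : aeval β f = 0 := by rw [← aeval_map_algebraMap p.ResidueField, hf]; exact hroot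
  have hmin : m' = minpoly p.ResidueField β := by
    refine eq_of_monic_of_dvd_of_natDegree_le (minpoly.monic (.of_finite _ _)) hm' (minpoly.dvd _ _ hroot) ?_
    have htop : IntermediateField.adjoin p.ResidueField {β} = ⊤ := by
      rw [eq_top_iff, ← hα, IntermediateField.adjoin_simple_le_iff]
      have : α = (algebraMap _ K c)⁻¹ * β := (inv_mul_cancel_left₀ ((_root_.map_ne_zero _).mpr hc) _).symm
      rw [this]
      exact mul_mem (inv_mem (IntermediateField.algebraMap_mem _ _))
        (IntermediateField.mem_adjoin_simple_self _ _)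
    rw [natDegree_scaleRoots, ← IntermediateField.adjoin.finrank (.of_finite _ β),
      ← IntermediateField.adjoin.finrank hαint, hα, htop]
  have hunit : IsUnit (aeval β P.g) := by
    rw [isUnit_iff_ne_zero]
    show aeval β (derivative f) ≠ 0
    rw [← aeval_map_algebraMap p.ResidueField, ← derivative_map, hf, hmin]
    exact (Algebra.IsSeparable.isSeparable p.ResidueField β).aeval_derivative_ne_zero (minpoly.aeval _ _)
  let φ : P.Ring →ₐ[R] K := P.lift β ⟨hfroot, hunit⟩
  let p₁ := RingHom.ker φ.toRingHom
  haveI : p₁.IsPrime := RingHom.ker_isPrime _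
  haveI : p₁.LiesOver p := ⟨by
    show p = (RingHom.ker φ.toRingHom).comap (algebraMap R P.Ring)
    rw [RingHom.comap_ker, φ.toRingHom_eq_coe, φ.comp_algebraMap, IsScalarTower.algebraMap_eq R p.ResidueField K,
      RingHom.ker_comp_of_injective _ (RingHom.injective _), Ideal.ker_algebraMap_residueField]⟩
  refine ⟨P.Ring, inferInstance, inferInstance, inferInstance, p₁, inferInstance, inferInstance, ?_⟩
  let ψ : p₁.ResidueField →ₐ[R] K :=
    { (IsFractionRing.lift (A := P.Ring ⧸ p₁) (g := RingHom.kerLift φ.toRingHom) (RingHom.kerLift_injective _) :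
        p₁.ResidueField →+* K) with
      commutes' := fun r => (by
        show IsFractionRing.lift _ (algebraMap R p₁.ResidueField r) = _
        rw [IsScalarTower.algebraMap_apply R (P.Ring ⧸ p₁) p₁.ResidueField, IsFractionRing.lift_algebraMap]
        exact φ.commutes r) }
  have hψ : ∀ x : P.Ring, ψ (algebraMap P.Ring p₁.ResidueField x) = φ x := fun x => by
    show (IsFractionRing.lift (A := P.Ring ⧸ p₁) (g := RingHom.kerLift φ.toRingHom) (RingHom.kerLift_injective _) :
      p₁.ResidueField →+* K) (algebraMap (P.Ring ⧸ p₁) p₁.ResidueField (Ideal.Quotient.mk p₁ x)) = _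
    rw [IsFractionRing.lift_algebraMap]
    rfl
  have hsurj : Function.Surjective ψ := by
    let F : Subfield K := ψ.toRingHom.fieldRange
    have hk : ∀ a : p.ResidueField, algebraMap p.ResidueField K a ∈ F := fun a => by
      obtain ⟨x, y, -, rfl⟩ := IsFractionRing.div_surjective (A := R ⧸ p) a
      obtain ⟨x, rfl⟩ := Ideal.Quotient.mk_surjective x
      obtain ⟨y, rfl⟩ := Ideal.Quotient.mk_surjective y
      rw [map_div₀, Ideal.algebraMap_quotient_residueField_mk, Ideal.algebraMap_quotient_residueField_mk,
        ← IsScalarTower.algebraMap_apply, ← IsScalarTower.algebraMap_apply]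
      exact div_mem ⟨algebraMap R _ x, ψ.commutes x⟩ ⟨algebraMap R _ y, ψ.commutes y⟩
    have hβ : β ∈ F := ⟨algebraMap P.Ring _ P.X, by
      show ψ (algebraMap P.Ring _ P.X) = β
      rw [hψ]
      exact P.lift_X β _⟩
    intro z
    have hz : z ∈ IntermediateField.adjoin p.ResidueField {α} := by rw [hα]; trivial
    have hle : (IntermediateField.adjoin p.ResidueField {α}).toSubfield ≤ F := by
      rw [IntermediateField.adjoin_toSubfield]
      refine Subfield.closure_le.2 (Set.union_subset (by rintro _ ⟨a, rfl⟩; exact hk a) ?_)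
      rw [Set.singleton_subset_iff]
      have : α = (algebraMap _ K c)⁻¹ * β := (inv_mul_cancel_left₀ ((_root_.map_ne_zero _).mpr hc) _).symm
      rw [this]
      exact mul_mem (inv_mem (hk c)) hβ
    exact hle hz
  exact ⟨(AlgEquiv.ofBijective ψ ⟨ψ.toRingHom.injective, hsurj⟩).symm.toAlgHom⟩

/-- A field generated over `K'` by a subfield whose separable elements have split minimal polynomials in `K'`. -/
theorem isPurelyInseparable_of_splits {k K' L E : Type u} [Field k] [Field K'] [Field L] [Field E] [Algebra k K']
    [Algebra k L] [Algebra K' E] [Algebra L E] [Algebra k E] [IsScalarTower k K' E] [IsScalarTower k L E]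
    [Algebra.IsAlgebraic k L] (hsplit : ∀ y : L, IsSeparable k y → ((minpoly k y).map (algebraMap k K')).Splits)
    (hgen : IntermediateField.adjoin K' (Set.range (algebraMap L E)) = ⊤) : IsPurelyInseparable K' E := by
  obtain ⟨q, hq⟩ := ExpChar.exists k
  haveI := hq
  haveI : ExpChar K' q := expChar_of_injective_ringHom (algebraMap k K').injective q
  have h : IsPurelyInseparable K' (IntermediateField.adjoin K' (Set.range (algebraMap L E))) := by
    rw [IntermediateField.isPurelyInseparable_adjoin_iff_pow_mem K' E q]
    rintro _ ⟨x, rfl⟩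
    obtain ⟨n, y, hy⟩ := IsPurelyInseparable.pow_mem (separableClosure k L) q x
    refine ⟨n, ?_⟩
    have hy' : x ^ q ^ n = (y : L) := hy.symm
    rw [← map_pow, hy']
    have hys : IsSeparable k (y : L) := mem_separableClosure_iff.1 y.2
    refine (hsplit _ hys).mem_range_of_isRoot (Polynomial.map_ne_zero (minpoly.ne_zero hys.isIntegral)) ?_
    rw [Polynomial.map_map, ← IsScalarTower.algebraMap_eq, IsRoot, eval_map_algebraMap, aeval_algebraMap_apply,
      minpoly.aeval, map_zero]
  rw [hgen] at h
  exact IntermediateField.topEquiv.isPurelyInseparable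

end EtResSplitLib
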