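import Groth.Agent.EtResSplitLib.Block
import Mathlib

/-!
# Splitting an integral algebra after an étale base change
-/

set_option autoImplicit false
set_option linter.all false
set_option maxHeartbeats 1000000
set_option backward.isDefEq.respectTransparency false
set_option backward.isDefEq.respectTransparency.types false

universe u

open Polynomial TensorProduct

namespace EtResSplitLib

theorem exists_splitting_field {k : Type u} [Field k] {ι : Type u} [Finite ι] (L : ι → Type u) [∀ i, Field (L i)]
    [∀ i, Algebra k (L i)] (hfin : ∀ i, Module.Finite k (separableClosure k (L i))) :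
    ∃ (K : Type u) (_ : Field K) (_ : Algebra k K), FiniteDimensional k K ∧ Algebra.IsSeparable k K ∧
      ∀ (i : ι) (y : L i), IsSeparable k y → ((minpoly k y).map (algebraMap k K)).Splits := by
  classical
  letI := Fintype.ofFinite ι
  choose α hα using fun i => (haveI := hfin i; Field.exists_primitive_element k (separableClosure k (L i)))
  have hint : ∀ i, IsIntegral k (α i) := fun i => haveI := hfin i; .of_finite k _
  let P : k[X] := ∏ i, minpoly k (α i)
  have hP0 : P ≠ 0 := Finset.prod_ne_zero_iff.2 fun i _ => minpoly.ne_zero (hint i)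
  let Ω := AlgebraicClosure k
  let K := IntermediateField.adjoin k (P.rootSet Ω)
  have hsplit : (P.map (algebraMap k Ω)).Splits := IsAlgClosed.splits _
  haveI hspl : P.IsSplittingField k K := IntermediateField.adjoin_rootSet_isSplittingField hsplit
  haveI : Normal k K := Normal.of_isSplittingField P
  haveI : FiniteDimensional k K := Polynomial.IsSplittingField.finiteDimensional K P
  haveI : Algebra.IsSeparable k K := by
    rw [IntermediateField.isSeparable_adjoin_iff_isSeparable]
    intro x hx
    rw [mem_rootSet, map_prod] at hx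
    obtain ⟨i, -, hi⟩ := Finset.prod_eq_zero_iff.1 hx.2
    exact ((Algebra.IsSeparable.isSeparable k (α i)).of_dvd (minpoly.dvd k x hi))
  refine ⟨K, inferInstance, inferInstance, inferInstance, inferInstance, fun i y hy => ?_⟩
  let y' : separableClosure k (L i) := ⟨y, mem_separableClosure_iff.2 hy⟩
  have hαK : ((minpoly k (α i)).map (algebraMap k K)).Splits :=
    hspl.splits'.of_dvd (Polynomial.map_ne_zero hP0)
      (Polynomial.map_dvd _ (Finset.dvd_prod_of_mem _ (Finset.mem_univ i)))
  obtain ⟨σ⟩ := IntermediateField.nonempty_algHom_of_adjoin_splits (K := K) (S := {α i})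
    (fun x hx => by rw [Set.mem_singleton_iff.1 hx]; exact ⟨hint i, hαK⟩) (hα i)
  have h := Normal.splits (inferInstance : Normal k K) (σ y')
  rwa [minpoly.algHom_eq σ σ.toRingHom.injective, show y' = ⟨y, _⟩ from rfl,
    ← minpoly.algHom_eq (separableClosure k (L i)).val Subtype.val_injective] at h

/-- Finiteness of the primes over `p₁` after an étale base change. -/
theorem finite_primesOver_baseChange {R S R₁ : Type u} [CommRing R] [CommRing S] [CommRing R₁] [Algebra R S]
    [Algebra R R₁] [Algebra.Etale R R₁] (p : Ideal R) [p.IsPrime]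
    (hfin : {q : PrimeSpectrum S | q.asIdeal.comap (algebraMap R S) = p}.Finite) (p₁ : Ideal R₁) [p₁.LiesOver p] :
    (p₁.primesOver (R₁ ⊗[R] S)).Finite := by
  haveI : Algebra.QuasiFinite S (S ⊗[R] R₁) := inferInstance
  let c := Algebra.TensorProduct.comm R S R₁
  refine ((hfin.biUnion fun q _ => Algebra.QuasiFinite.finite_primesOver (S := S ⊗[R] R₁) q.asIdeal).image
    fun J => J.comap c.symm.toAlgHom.toRingHom).subset ?_
  rintro r ⟨hr, hr'⟩
  haveI := hr
  haveI : (r.comap c.toAlgHom.toRingHom).IsPrime := Ideal.IsPrime.comap _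
  refine ⟨r.comap c.toAlgHom.toRingHom, Set.mem_iUnion₂.2 ⟨⟨(r.comap c.toAlgHom.toRingHom).comap
    (algebraMap S (S ⊗[R] R₁)), Ideal.IsPrime.comap _⟩, ?_, ⟨inferInstance, ⟨rfl⟩⟩⟩, ?_⟩
  · show ((r.comap c.toAlgHom.toRingHom).comap (algebraMap S (S ⊗[R] R₁))).comap (algebraMap R S) = p
    rw [Ideal.comap_comap, ← IsScalarTower.algebraMap_eq, Ideal.comap_comap,
      show c.toAlgHom.toRingHom.comp (algebraMap R (S ⊗[R] R₁)) = (algebraMap R₁ (R₁ ⊗[R] S)).comp (algebraMap R R₁) from
        RingHom.ext fun a => (c.commutes a).trans (IsScalarTower.algebraMap_apply R R₁ (R₁ ⊗[R] S) a),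
      ← Ideal.comap_comap, ← Ideal.under_def R₁ r, ← hr'.over]
    exact (Ideal.LiesOver.over (P := p₁) (p := p)).symm
  · ext x
    show c (c.symm x) ∈ r ↔ x ∈ r
    rw [AlgEquiv.apply_symm_apply]

/-- The case without primes. -/
theorem exists_split_empty {R S R₂ : Type u} [CommRing R] [CommRing S] [CommRing R₂] [Algebra R S]
    [Algebra.IsIntegral R S] [Algebra R R₂] [Algebra.Etale R R₂] (p : Ideal R) (P : Ideal R₂) [P.IsPrime] [P.LiesOver p]
    (hno : ∀ r : Ideal (R₂ ⊗[R] S), r.IsPrime → ¬ r.LiesOver P) :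
    ∃ (R' : Type u) (_ : CommRing R') (_ : Algebra R R') (p' : PrimeSpectrum R'), Algebra.Etale R R' ∧
      p'.asIdeal.comap (algebraMap R R') = p ∧ Subsingleton (R' ⊗[R] S) := by
  obtain ⟨f, hf, hfP⟩ : ∃ f, algebraMap R₂ (R₂ ⊗[R] S) f = 0 ∧ f ∉ P := by
    by_contra hne
    push Not at hne
    obtain ⟨r, -, hr, hrP⟩ := Ideal.exists_ideal_over_prime_of_isIntegral (S := R₂ ⊗[R] S) P ⊥ (fun x hx => hne x hx)
    exact hno r hr ⟨hrP.symm⟩
  let R₃ := Localization.Away f
  haveI : IsLocalization (Submonoid.powers f) R₃ := Localization.isLocalization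
  haveI : Algebra.Etale R₂ R₃ := Algebra.Etale.of_isLocalizationAway f
  haveI : Algebra.Etale R R₃ := Algebra.Etale.comp R R₂ R₃
  have hd : Disjoint (Submonoid.powers f : Set R₂) (P : Set R₂) :=
    Set.disjoint_left.2 fun x ⟨n, hn⟩ hx => hfP (Ideal.IsPrime.mem_of_pow_mem (I := P) inferInstance n (by rw [show f ^ n = x from hn]; exact hx))
  refine ⟨R₃, inferInstance, inferInstance, ⟨P.map (algebraMap R₂ R₃),
    IsLocalization.isPrime_of_isPrime_disjoint (Submonoid.powers f) R₃ P ‹_› hd⟩, inferInstance, ?_, ?_⟩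
  · show (P.map (algebraMap R₂ R₃)).comap (algebraMap R R₃) = p
    rw [IsScalarTower.algebraMap_eq R R₂ R₃, ← Ideal.comap_comap,
      ← Ideal.under_def R₂ (P.map (algebraMap R₂ R₃)),
      IsLocalization.under_map_of_isPrime_disjoint (Submonoid.powers f) R₃ ‹P.IsPrime› hd]
    exact (Ideal.LiesOver.over (P := P) (p := p)).symm
  · let ψ := Algebra.TensorProduct.map (IsScalarTower.toAlgHom R R₂ R₃) (AlgHom.id R S)
    refine subsingleton_of_zero_eq_one ?_
    have h0 : ψ (algebraMap R₂ (R₂ ⊗[R] S) f) = algebraMap R₃ (R₃ ⊗[R] S) (algebraMap R₂ R₃ f) := by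
      show ψ (f ⊗ₜ 1) = _
      rw [Algebra.TensorProduct.map_tmul, map_one]
      rfl
    rw [hf, map_zero] at h0
    have hu : IsUnit (algebraMap R₂ R₃ f) := IsLocalization.map_units R₃ (⟨f, Submonoid.mem_powers f⟩ : Submonoid.powers f)
    have hu' := hu.map (algebraMap R₃ (R₃ ⊗[R] S))
    rw [← h0] at hu'
    exact isUnit_zero_iff.1 hu'

/-- Orthogonal idempotents with the last merged into the first. -/
theorem completeOrthogonalIdempotents_merge {Y : Type u} [CommRing Y] {k : ℕ} (e : Fin (k + 2) → Y)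
    (he : CompleteOrthogonalIdempotents e) :
    CompleteOrthogonalIdempotents fun j : Fin (k + 1) =>
      e j.castSucc + if j = 0 then e (Fin.last (k + 1)) else 0 := by
  classical
  have ho : ∀ a b, a ≠ b → e a * e b = 0 := fun a b h => he.ortho h
  have hne : ∀ j : Fin (k + 1), j.castSucc ≠ Fin.last (k + 1) := fun j => Fin.castSucc_ne_last j
  refine ⟨⟨fun j => ?_, fun i j hij => ?_⟩, ?_⟩
  · show _ * _ = _
    split_ifs with h
    · rw [add_mul, mul_add, mul_add, (he.idem _).eq, (he.idem _).eq, ho _ _ (hne j), ho _ _ (hne j).symm, add_zero,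
        zero_add]
    · rw [add_zero, (he.idem _).eq]
  · have h' : i.castSucc ≠ j.castSucc := fun h => hij (Fin.castSucc_injective _ h)
    show (_ + _) * (_ + _) = (0 : Y)
    split_ifs with hi hj hj
    · exact absurd (hi.trans hj.symm) hij
    · rw [add_mul, add_zero, ho _ _ h', ho _ _ (hne j).symm, add_zero]
    · rw [mul_add, add_zero, ho _ _ h', ho _ _ (hne i), add_zero]
    · rw [add_zero, add_zero, ho _ _ h']
  · rw [Finset.sum_add_distrib, Finset.sum_ite_eq' Finset.univ (0 : Fin (k + 1)) fun _ => e (Fin.last (k + 1)),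
      if_pos (Finset.mem_univ _), ← Fin.sum_univ_castSucc (f := e), he.complete]

/-- The product decomposition of the idempotents, with the properties read off the blocks. -/
theorem exists_equiv_pi {R' Y : Type u} [CommRing R'] [CommRing Y] [Algebra R' Y] {m : ℕ} (E : Fin m → Y)
    (hE : CompleteOrthogonalIdempotents E) :
    Nonempty (Y ≃ₐ[R'] Π j, Y ⧸ Ideal.span {1 - E j}) :=
  ⟨AlgEquiv.ofBijective (Pi.algHom R' _ fun j => Ideal.Quotient.mkₐ R' (Ideal.span {1 - E j})) hE.bijective_pi⟩

end EtResSplitLib
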